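import Mathlib
import Cfsg.Agent.Char.GlaubCyclic
import Cfsg.Agent.Char.GlaubCount
import Cfsg.Agent.Char.Clifford
import Cfsg.Agent.Block.Principal

/-! Character lemmas for extremely closed abelian `p`-subgroups (S3016). -/

set_option autoImplicit false

namespace Cfsg.Agent.ExC

open Cfsg Cfsg.Agent.Char Subgroup
open scoped ComplexConjugate

/-- an invariant integral function with `p'`-value at `1` has nonzero sum when a `p`-group acts
fixed-point-freely -/
theorem sum_ne_zero_of_fpf {P R : Type*} [Group P] [Group R] [Fintype R] {p : ℕ}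
    [hp : Fact p.Prime] (hP : IsPGroup p P) (φ : P →* MulAut R)
    (hfix : ∀ r : R, (∀ a, φ a r = r) → r = 1) {f : R → ℂ} (hf : ∀ r, IsIntegral ℤ (f r))
    (hinv : ∀ a r, f (φ a r) = f r) {n : ℕ} (h1 : f 1 = n) (hn : ¬ p ∣ n) : ∑ r, f r ≠ 0 := by
  classical
  intro h0
  have key : ∀ v : ℂ, p ∣ (((Finset.univ : Finset R).erase 1).filter (fun r => f r = v)).card := by
    intro v
    have h := Block.card_modEq_card_fixed_hom hP φ (fun r : R => r ≠ 1 ∧ f r = v)
      (fun a r hr => ⟨fun h => hr.1 ((φ a).injective (by simpa using h)),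
        (hinv a r).trans hr.2⟩)
    have e : IsEmpty {r : R // (r ≠ 1 ∧ f r = v) ∧ ∀ a : P, φ a • r = r} :=
      ⟨fun r => r.2.1.1 (hfix r r.2.2)⟩
    rw [Nat.card_of_isEmpty (α := {r : R // (r ≠ 1 ∧ f r = v) ∧ ∀ a : P, φ a • r = r}),
      Nat.modEq_zero_iff_dvd, Nat.card_eq_fintype_card, Fintype.card_subtype] at h
    convert h using 2
    ext r
    simp
  choose c hc using key
  have h2 : ∑ r ∈ (Finset.univ : Finset R).erase 1, f r =
      p * ∑ v ∈ ((Finset.univ : Finset R).erase 1).image f, c v * v := by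
    rw [← Finset.sum_fiberwise_of_maps_to (g := f) (fun r hr => Finset.mem_image_of_mem f hr),
      Finset.mul_sum]
    refine Finset.sum_congr rfl fun v _ => ?_
    rw [Finset.sum_congr rfl (g := fun _ => v) (fun x hx => (Finset.mem_filter.1 hx).2),
      Finset.sum_const, nsmul_eq_mul, hc v]
    push_cast
    ring
  have h3 : IsIntegral ℤ (∑ v ∈ ((Finset.univ : Finset R).erase 1).image f, (c v : ℂ) * v) := by
    refine IsIntegral.sum _ fun v hv => IsIntegral.mul (isIntegral_natCast _) ?_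
    obtain ⟨r, -, rfl⟩ := Finset.mem_image.1 hv
    exact hf r
  rw [← Finset.add_sum_erase _ _ (Finset.mem_univ 1), h2, h1] at h0
  have hp0 : (p : ℂ) ≠ 0 := by exact_mod_cast hp.out.ne_zero
  refine hn (dvd_of_isIntegral_div hp.out.ne_zero ?_)
  convert h3.neg using 1
  field_simp
  linear_combination h0

section Amb
variable {Γ : Type*} [Group Γ] [Finite Γ] {p : ℕ} [hp : Fact p.Prime] {H R : Subgroup Γ}

/-- ambient form: an invariant character of `p'`-degree contains the principal character -/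
theorem inner_one_ne_zero [Fintype R] (hH : IsPGroup p H) (hn : H ≤ normalizer (R : Set Γ))
    (hfix : R ⊓ centralizer (H : Set Γ) = ⊥) {f : R → ℂ} (hf : IsCharacter R f)
    (hinv : InvBy H f) {n : ℕ} (h1 : f 1 = n) (hd : ¬ p ∣ n) :
    classInner f (fun _ => 1) ≠ 0 := by
  rw [classInner_one_right]
  refine mul_ne_zero (inv_ne_zero (card_ne_zero R)) (sum_ne_zero_of_fpf hH
    (R.normalizerMonoidHom.comp (inclusion hn)) (fun r hr => ?_) (isCharacter_isIntegral hf)
    (fun a r => hinv a a.2 _ _ rfl) h1 hd)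
  have : (r : Γ) ∈ R ⊓ centralizer (H : Set Γ) := by
    refine ⟨r.2, fun a ha => ?_⟩
    have := congrArg Subtype.val (hr ⟨a, ha⟩)
    change a * r * a⁻¹ = r at this
    exact mul_inv_eq_iff_eq_mul.1 this
  rw [hfix, mem_bot] at this
  exact Subtype.ext this

theorem eq_one_of_invBy (hH : IsPGroup p H) (hn : H ≤ normalizer (R : Set Γ))
    (hfix : R ⊓ centralizer (H : Set Γ) = ⊥) (hR : ¬ p ∣ Nat.card R) {f : R → ℂ}
    (hf : IsIrrCharacter R f) (hinv : InvBy H f) : f = fun _ => 1 := by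
  have := Fintype.ofFinite R
  obtain ⟨n, -, h1⟩ := hf.exists_nat_one
  exact hf.eq_of_inner_ne_zero isIrrCharacter_one (inner_one_ne_zero hH hn hfix hf.isCharacter
    hinv h1 fun h => hR (h.trans (hf.deg_dvd_card h1)))

end Amb

/-- positivity of the trace of a product of two averaging idempotents -/
theorem sum_mul_re_nonneg {L A B : Type*} [Group L] [Finite L] [Group A] [Fintype A] [Group B]
    [Fintype B] (f : A →* L) (g : B →* L) {ψ : L → ℂ} (hψ : IsIrrCharacter L ψ) :
    0 ≤ (∑ a, ∑ b, ψ (f a * g b)).re := by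
  have := Fintype.ofFinite L
  set F : L → ℂ := fun k => ∑ a, ∑ b, ψ (f a * g b * k) with hF
  have hc := hψ.isClassFunction
  have h1 : ∀ x y : L, ψ 1 * ∑ k, conj (ψ (x * k)) * ψ (y * k) = Nat.card L * ψ (x⁻¹ * y) := by
    intro x y
    have := hψ.sum_conj_mul_mul hc (y * x⁻¹)
    rw [hψ.inner_self, mul_one, ← Equiv.sum_comp (Equiv.mulLeft x)] at this
    rw [hc.mul_comm x⁻¹, ← this]
    congr 1
    refine Finset.sum_congr rfl fun k _ => ?_
    rw [Equiv.coe_mulLeft, hc.mul_comm y k, ← hc (k * y) x]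
    congr 2
    group
  have h2 : ψ 1 * ∑ k, conj (F k) * F k =
      Nat.card L * (Fintype.card A * Fintype.card B * ∑ a, ∑ b, ψ (f a * g b)) := by
    have e1 : ∑ k, conj (F k) * F k = ∑ a', ∑ b', ∑ a, ∑ b,
        ∑ k, conj (ψ (f a' * g b' * k)) * ψ (f a * g b * k) := by
      simp only [hF, map_sum, Finset.sum_mul]
      simp only [Finset.mul_sum]
      rw [Finset.sum_comm]
      refine Finset.sum_congr rfl fun a' _ => ?_
      rw [Finset.sum_comm]
      refine Finset.sum_congr rfl fun b' _ => ?_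
      rw [Finset.sum_comm]
      refine Finset.sum_congr rfl fun a _ => ?_
      rw [Finset.sum_comm]
    have e2 : ∀ a' b', ∑ a, ∑ b, ψ ((f a' * g b')⁻¹ * (f a * g b)) =
        ∑ a, ∑ b, ψ (f a * g b) := by
      intro a' b'
      rw [← Equiv.sum_comp (Equiv.mulLeft a')]
      refine Finset.sum_congr rfl fun a _ => ?_
      rw [← Equiv.sum_comp (Equiv.mulRight b')]
      refine Finset.sum_congr rfl fun b _ => ?_
      rw [← hc (f a * g b) (g b')⁻¹]
      congr 1
      simp only [Equiv.coe_mulLeft, Equiv.coe_mulRight, map_mul]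
      group
    rw [e1]
    simp only [Finset.mul_sum, h1]
    simp only [← Finset.mul_sum, e2, Finset.sum_const, Finset.card_univ, nsmul_eq_mul]
    ring
  obtain ⟨d, -, hd⟩ := hψ.exists_nat_one
  have h3 : ∑ k, conj (F k) * F k = ((∑ k, ‖F k‖ ^ 2 : ℝ) : ℂ) := by
    push_cast
    exact Finset.sum_congr rfl fun k _ => Complex.conj_mul' _
  rw [h3, hd] at h2
  have h4 := congrArg Complex.re h2
  rw [← mul_assoc, ← Nat.cast_mul, ← Nat.cast_mul, ← Complex.ofReal_natCast,
    ← Complex.ofReal_natCast, ← Complex.ofReal_mul, Complex.ofReal_re, Complex.re_ofReal_mul] at h4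
  have h5 : (0 : ℝ) < (Nat.card L * (Fintype.card A * Fintype.card B) : ℕ) := by
    have := Nat.card_pos (α := L)
    have := Fintype.card_pos (α := A)
    have := Fintype.card_pos (α := B)
    positivity
  refine le_of_mul_le_mul_left ?_ h5
  rw [← h4, mul_zero]
  positivity

section LemL
variable {L : Type*} [Group L] [Finite L] {p : ℕ} [hp : Fact p.Prime]

theorem re_le_one {ψ : L → ℂ} (hψ : IsCharacter L ψ) (x : L) : (ψ x).re ≤ (ψ 1).re := by
  obtain ⟨d, hd⟩ := hψ.exists_nat_one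
  have := isCharacter_norm_le hψ x
  rw [hd] at this ⊢
  simpa using (Complex.re_le_norm _).trans this

/-- the fixed space of `H` on an irreducible module nontrivial for `K` is small -/
theorem three_mul_sum_le (hp2 : p ≠ 2) {H K : Subgroup L} [K.Normal] [Fintype H]
    (hH : IsPGroup p H) (hab : IsMulCommutative H) (htop : H ⊔ K = ⊤) (hK : ¬ p ∣ Nat.card K)
    (hfix : K ⊓ centralizer (H : Set L) = ⊥) {ψ : L → ℂ} (hψ : IsIrrCharacter L ψ)
    (hne : ¬ K ≤ charKer ψ) : 3 * (∑ s : H, ψ s).re ≤ Nat.card H * (ψ 1).re := by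
  classical
  have := Fintype.ofFinite L
  have := Fintype.ofFinite K
  obtain ⟨θ, hθ, h1⟩ := exists_irr_inner_restrict_ne_zero K hψ
  set T := inertia K θ with hT
  have := Fintype.ofFinite T
  have hKT : K ≤ T := le_inertia K hθ.isClassFunction
  have hHT : ¬ H ≤ T := by
    intro h
    have h2 : θ = fun _ => 1 := eq_one_of_invBy hH le_normalizer_of_normal hfix hK hθ
      fun s hs g g' e => by
        rw [← (mem_inertia' K).1 (h hs) g]
        congr 1
        exact Subtype.ext e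
    rw [h2] at h1
    exact hne fun k hk => (mem_charKer_iff hψ.isCharacter).2
      (restrict_eq_const_of_inner_one_ne_zero K hψ h1 ⟨k, hk⟩)
  have hTn : T.Normal := by
    refine ⟨fun t ht g => ?_⟩
    obtain ⟨a, ha, k, hk, rfl⟩ := mem_sup_of_normal_right.1 (htop.ge (mem_top t))
    obtain ⟨b, hb, l, hl, rfl⟩ := mem_sup_of_normal_right.1 (htop.ge (mem_top g))
    have e : b * a = a * b := congrArg Subtype.val (mul_comm' (⟨b, hb⟩ : H) ⟨a, ha⟩)
    have h2 : b * l * (a * k) * (b * l)⁻¹ =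
        (b * (l * (a * (k * l⁻¹ * k⁻¹) * a⁻¹)) * b⁻¹) * (a * (b * k * b⁻¹ * k⁻¹) * a⁻¹) * (a * k) := by
      calc b * l * (a * k) * (b * l)⁻¹
          = (b * (l * (a * (k * l⁻¹ * k⁻¹) * a⁻¹)) * b⁻¹) * (b * a) * k * b⁻¹ := by group
        _ = _ := by rw [e]; group
    rw [h2]
    have hn : K.Normal := inferInstance
    exact mul_mem (mul_mem (hKT (hn.conj_mem _ (mul_mem hl (hn.conj_mem _
      (mul_mem (mul_mem hk (inv_mem hl)) (inv_mem hk)) a)) b))
      (hKT (hn.conj_mem _ (mul_mem (hn.conj_mem _ hk b) (inv_mem hk)) a))) ht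
  obtain ⟨ψ', -, h2, -⟩ := exists_clifford_corr hKT hθ le_rfl hψ h1
  have h3 : ∀ s, s ∉ T → ψ s = 0 := fun s hs => h2 ▸ indFun_eq_zero_of_normal T ψ' hs
  have h4 : (∑ s : H, ψ s).re ≤ Nat.card (T.subgroupOf H) * (ψ 1).re := by
    rw [Complex.re_sum, ← Finset.sum_filter_of_ne (p := fun s : H => s ∈ T.subgroupOf H)
      (fun s _ hs => by_contra fun h => hs (by rw [h3 s h]; rfl))]
    refine (Finset.sum_le_card_nsmul _ _ _ fun s _ => re_le_one hψ.isCharacter _).trans ?_
    rw [nsmul_eq_mul, Nat.card_eq_fintype_card, Fintype.card_subtype]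
  have h5 : 3 ≤ (T.subgroupOf H).index := by
    obtain ⟨k, hk⟩ := hH.index (T.subgroupOf H)
    have h6 : k ≠ 0 := by
      rintro rfl
      exact hHT (subgroupOf_eq_top.1 (index_eq_one.1 hk))
    rw [hk]
    exact (Nat.succ_le_of_lt (lt_of_le_of_ne hp.out.two_le hp2.symm)).trans
      (Nat.le_self_pow h6 p)
  have h6 : (3 : ℝ) * Nat.card (T.subgroupOf H) ≤ Nat.card H := by
    rw [← (T.subgroupOf H).index_mul_card]
    exact_mod_cast Nat.mul_le_mul_right _ h5
  have h7 := hψ.isCharacter.one_re_nonneg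
  nlinarith

theorem pair_bound (hp2 : p ≠ 2) {H K : Subgroup L} [K.Normal] [Fintype H]
    (hH : IsPGroup p H) (hab : IsMulCommutative H) (htop : H ⊔ K = ⊤) (hK : ¬ p ∣ Nat.card K)
    (hfix : K ⊓ centralizer (H : Set L) = ⊥) {k : L} (hk : k ∈ K) {ψ : L → ℂ}
    (hψ : IsCharacter L ψ) :
    3 * Nat.card H * (∑ s : H, ψ s).re - (Nat.card H : ℝ) ^ 2 * (ψ 1).re ≤
      2 * (∑ s : H, ∑ t : H, ψ (s * (k * t * k⁻¹))).re := by
  refine hψ.induction_on (P := fun ψ : L → ℂ => 3 * Nat.card H * (∑ s : H, ψ s).re -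
    (Nat.card H : ℝ) ^ 2 * (ψ 1).re ≤ 2 * (∑ s : H, ∑ t : H, ψ (s * (k * t * k⁻¹))).re)
    (by simp) fun φ ψ hφ _ ih => ?_
  simp only [Pi.add_apply, Finset.sum_add_distrib, Complex.add_re]
  have hh : (0 : ℝ) ≤ Nat.card H := Nat.cast_nonneg _
  suffices 3 * Nat.card H * (∑ s : H, φ s).re - (Nat.card H : ℝ) ^ 2 * (φ 1).re ≤
      2 * (∑ s : H, ∑ t : H, φ (s * (k * t * k⁻¹))).re by linarith
  by_cases hk' : K ≤ charKer φ
  · have h1 : ∀ s : H, ∑ t : H, φ (s * (k * t * k⁻¹)) = ∑ t : H, φ t := by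
      intro s
      rw [← Equiv.sum_comp (Equiv.mulLeft s) (fun t : H => φ t)]
      refine Finset.sum_congr rfl fun t _ => ?_
      have hn : K.Normal := inferInstance
      rw [show (s : L) * (k * t * k⁻¹) =
        (s * (k * (t * k⁻¹ * (t : L)⁻¹)) * (s : L)⁻¹) * (s * t) by group]
      exact hk' (hn.conj_mem _ (mul_mem hk (hn.conj_mem _ (inv_mem hk) t)) s) _
    have h2 : (∑ s : H, φ s).re ≤ Nat.card H * (φ 1).re := by
      rw [Complex.re_sum]
      refine (Finset.sum_le_card_nsmul _ _ _ fun s _ => re_le_one hφ.isCharacter _).trans ?_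
      rw [nsmul_eq_mul, Nat.card_eq_fintype_card, Finset.card_univ]
    simp only [h1, Finset.sum_const, Finset.card_univ, nsmul_eq_mul, ← Nat.card_eq_fintype_card]
    rw [← Complex.ofReal_natCast, Complex.re_ofReal_mul]
    nlinarith
  · have h1 := three_mul_sum_le hp2 hH hab htop hK hfix hφ hk'
    have h2 := sum_mul_re_nonneg H.subtype ((MulAut.conj k).toMonoidHom.comp H.subtype) hφ
    have h3 : (0 : ℝ) ≤ (∑ s : H, ∑ t : H, φ (s * (k * t * k⁻¹))).re := h2
    nlinarith

end LemL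

section Amb2
variable {G : Type*} [Group G] [Finite G] {p : ℕ} [hp : Fact p.Prime]

/-- ambient form of `pair_bound` -/
theorem pair_bound' (hp2 : p ≠ 2) {H K : Subgroup G} [Fintype H]
    (hH : IsPGroup p H) (hab : IsMulCommutative H) (hn : H ≤ normalizer (K : Set G))
    (hK : ¬ p ∣ Nat.card K) (hfix : K ⊓ centralizer (H : Set G) = ⊥) {k : G} (hk : k ∈ K)
    {ψ : G → ℂ} (hψ : IsCharacter G ψ) :
    3 * Nat.card H * (∑ s : H, ψ s).re - (Nat.card H : ℝ) ^ 2 * (ψ 1).re ≤
      2 * (∑ s : H, ∑ t : H, ψ (s * (k * t * k⁻¹))).re := by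
  set L := H ⊔ K with hL
  have hHL : H ≤ L := le_sup_left
  have hKL : K ≤ L := le_sup_right
  have hN : (K.subgroupOf L).Normal :=
    (normal_subgroupOf_iff_le_normalizer hKL).2 (sup_le hn le_normalizer)
  have := Fintype.ofFinite (H.subgroupOf L)
  have e := subgroupOfEquivOfLe hHL
  have h := pair_bound (L := L) hp2 (H := H.subgroupOf L) (K := K.subgroupOf L)
    (hH.of_equiv (subgroupOfEquivOfLe hHL).symm) inferInstance
    (by rw [← subgroupOf_sup hHL hKL, subgroupOf_self])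
    (by rwa [Nat.card_congr (subgroupOfEquivOfLe hKL).toEquiv])
    (by
      rw [eq_bot_iff]
      intro x hx
      have : (x : G) ∈ K ⊓ centralizer (H : Set G) :=
        ⟨hx.1, fun a ha => congrArg Subtype.val (hx.2 ⟨a, hHL ha⟩ ha)⟩
      rw [hfix, mem_bot] at this
      exact Subtype.ext this) (k := ⟨k, hKL hk⟩) hk (hψ.restrict L)
  rw [Nat.card_congr (subgroupOfEquivOfLe hHL).toEquiv,
    ← Equiv.sum_comp (subgroupOfEquivOfLe hHL).toEquiv.symm,
    ← Equiv.sum_comp (subgroupOfEquivOfLe hHL).toEquiv.symm] at h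
  simp only [← Equiv.sum_comp (subgroupOfEquivOfLe hHL).toEquiv.symm] at h
  exact h

/-- every element of the coset `b K` is `K`-conjugate into `b C_K(b)` -/
theorem exists_conj_coset {K : Subgroup G} {b : G} (hb : b ∈ normalizer (K : Set G))
    (hK : (Nat.card K).Coprime (orderOf b)) {x : G} (hx : x ∈ K) :
    ∃ c ∈ K, ∃ u ∈ K ⊓ centralizer ({b} : Set G), x * b = c * (b * u) * c⁻¹ := by
  have hC : K ⊓ centralizer ({b} : Set G) = relCent ⊥ K (le_normalizer_bot K) {b} :=
    (relCent_bot K {b}).symm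
  have h := cycPair_relCent (le_normalizer_bot K) bot_le hb (le_normalizer_bot ⊤ (mem_top b))
    (m := orderOf b) (by rwa [relIndex_bot_left]) (by simp [pow_orderOf_eq_one]) hC inf_le_left
  obtain ⟨c, u, e⟩ := h.exists_conj_eq ⟨x, hx⟩
  refine ⟨c, c.2, u, u.2, ?_⟩
  have e' : x * b = c * (u * b) * (c : G)⁻¹ := congrArg Subtype.val e
  rw [e', mem_centralizer_singleton_iff.1 u.2.2]

/-- Glauberman's coset formula -/
theorem exists_coset_irr {X : Subgroup G} {b : G} (hb : b ∈ normalizer (X : Set G))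
    (hX : (Nat.card X).Coprime (orderOf b)) {χ : G → ℂ} (hχ : IsCharacter G χ)
    (hirr : IsIrrCharacter X (fun x => χ x)) :
    ∃ (η : ↥(X ⊓ centralizer ({b} : Set G)) → ℂ) (z : ℂ), IsIrrCharacter _ η ∧ z ≠ 0 ∧
      ∀ y : ↥(X ⊓ centralizer ({b} : Set G)), χ (b * y) = z * η y := by
  set C := X ⊓ centralizer ({b} : Set G) with hC0
  have hC : C = relCent ⊥ X (le_normalizer_bot X) {b} := (relCent_bot X {b}).symm
  have h := cycPair_relCent (le_normalizer_bot X) bot_le hb (le_normalizer_bot ⊤ (mem_top b))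
    (m := orderOf b) (by rwa [relIndex_bot_left]) (by simp [pow_orderOf_eq_one]) hC inf_le_left
  have := Fintype.ofFinite X
  have := Fintype.ofFinite C
  obtain ⟨ξ, hξ, hξ', h0⟩ := h.exists_right (hχ.restrict _) hirr
  have h1 := h.eq_mu_mul (hχ.restrict _) hirr hξ.isCharacter hξ' h0
  set s : ↥(C ⊔ zpowers b) := ⟨b, mem_sup_right (mem_zpowers b)⟩ with hs
  have hsc : s ∈ center ↥(C ⊔ zpowers b) := by
    rw [mem_center_iff]
    intro g
    have : C ⊔ zpowers b ≤ centralizer ({b} : Set G) :=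
      sup_le inf_le_right (zpowers_le.2 (mem_centralizer_singleton_iff.2 rfl))
    exact Subtype.ext (mem_centralizer_singleton_iff.1 (this g.2))
  obtain ⟨ω, hω, h2⟩ := (isCharacter_norm_eq_iff hξ.isCharacter s).1
    (norm_eq_of_mem_center hξ hsc)
  refine ⟨_, _ * ω, hξ', mul_ne_zero h0 (by rintro rfl; simp at hω), fun y => ?_⟩
  have h3 := h1 y
  rw [mem_center_iff.1 hsc, h2] at h3
  rw [mul_assoc]
  exact h3

end Amb2

end Cfsg.Agent.ExC
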