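import Mathlib
import Cfsg.Agent.ExC.Char
import Cfsg.Agent.PLocal.ExtClosed
import Cfsg.Agent.PLocal.PSolv

/-! Pairs of conjugates of an extremely closed abelian `p`-subgroup; the fixed space bound and the
coprime case of S3016. -/

set_option autoImplicit false

namespace Cfsg.Agent.ExC

open Cfsg Cfsg.Agent.Char Cfsg.Agent.PLocal Cfsg.Agent.PLocal.Amb Subgroup
open scoped ComplexConjugate

variable {G : Type*} [Group G] {p : ℕ}

/-- the structure of `⟨H, H^g⟩ = K H` -/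
structure PairData (p : ℕ) (H : Subgroup G) (g : G) (K : Subgroup G) (k : G) : Prop where
  cop : ¬ p ∣ Nat.card K
  norm : H ≤ 𝐍[K]
  fix : K ⊓ 𝐂[H] = ⊥
  mem : k ∈ K
  nmem : k⁻¹ * g ∈ 𝐍[H]
  gen : ∀ u ∈ K, u ∈ H ⊔ cj(u, H)

theorem hcomm {H : Subgroup G} (hab : IsMulCommutative H) {a b : G} (ha : a ∈ H) (hb : b ∈ H) :
    a * b = b * a := congrArg Subtype.val (mul_comm' (⟨a, ha⟩ : H) ⟨b, hb⟩)

theorem le_cent {H : Subgroup G} (hab : IsMulCommutative H) {b : G} (hb : b ∈ H) :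
    H ≤ centralizer ({b} : Set G) := fun _ hx =>
  mem_centralizer_singleton_iff.2 (hcomm hab hx hb)

theorem PairData.sum_eq {H K : Subgroup G} {g k : G} (h : PairData p H g K k) [Fintype H]
    {M : Type*} [AddCommMonoid M] (F : G → M) :
    ∑ t : H, F (g * t * g⁻¹) = ∑ t : H, F (k * t * k⁻¹) := by
  rw [← Equiv.sum_comp (H.normalizerMonoidHom ⟨_, h.nmem⟩).toEquiv (fun t : H => F (k * t * k⁻¹))]
  refine Finset.sum_congr rfl fun t _ => ?_
  congr 1
  change _ = k * (k⁻¹ * g * t * (k⁻¹ * g)⁻¹) * k⁻¹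
  group

variable [Finite G] [hp : Fact p.Prime] {H : Subgroup G}

theorem exists_pair (hH : IsPGroup p H) (hab : IsMulCommutative H) (hcl : IsExtremelyClosed H)
    (g : G) : ∃ K k, PairData p H g K k := by
  have h1 := ext_hasNormalPComplement hH hab hcl g
  have h2 := ext_isSyl hH hcl g
  have h3 := h2.pRes_sup
  have hn : H ≤ 𝐍[𝐎[p, H ⊔ cj(g, H)]] := le_sup_left.trans (le_normalizer_pRes p _)
  have hc := coprime_card_pRes h1
  obtain ⟨c, hc1, hc2⟩ := h2.exists_le_cj (isPGroup_cj g hH) le_sup_right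
  rw [← h3] at hc1
  obtain ⟨y, hy, a, ha, rfl⟩ := (mem_sup_of_le_normalizer_left hn).1 hc1
  rw [cj_mul, cj_of_mem ha, le_cj_iff, ← cj_mul] at hc2
  refine ⟨_, y, Block.not_dvd_iff_coprime.2 hc, hn, ?_, hy, mem_normalizer_of_cj_le hc2,
    fun u hu => ?_⟩
  · rw [eq_bot_iff, ← Grp.inf_eq_bot_of_isPGroup_of_coprime hH hc]
    refine le_inf ?_ inf_le_left
    exact (inf_le_inf (pRes_le p _) (centralizer_le_normalizer (H : Set G))).trans (hcl g).le
  · have huT : u ∈ H ⊔ cj(g, H) := pRes_le p _ hu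
    have hM : H ⊔ cj(u, H) ≤ H ⊔ cj(g, H) := sup_le le_sup_left (cj_le_of_mem le_sup_left huT)
    obtain ⟨c, hc1, hc2⟩ := (ext_isSyl hH hcl u).exists_le_cj (isPGroup_cj u hH) le_sup_right
    rw [le_cj_iff, ← cj_mul] at hc2
    have h4 : c⁻¹ * u ∈ H := (hcl g).le
      (mem_inf.2 ⟨mul_mem (inv_mem (hM hc1)) huT, mem_normalizer_of_cj_le hc2⟩)
    have := mul_mem hc1 (mem_sup_left h4 : _ ∈ H ⊔ cj(u, H))
    rwa [mul_inv_cancel_left] at this

theorem PairData.exists_conj {K : Subgroup G} {g k : G} (h : PairData p H g K k)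
    (hH : IsPGroup p H) {s t : G} (hs : s ∈ H) (ht : t ∈ H) :
    ∃ c : G, ∃ u ∈ K ⊓ centralizer ({s * t} : Set G),
      s * (k * t * k⁻¹) = c * (s * t * u) * c⁻¹ := by
  obtain ⟨n, hn⟩ := Block.orderOf_eq_pow_of_mem hH (mul_mem hs ht)
  obtain ⟨c, -, u, hu, e⟩ := exists_conj_coset (h.norm (mul_mem hs ht))
    (hn ▸ Nat.Coprime.pow_right n (Block.not_dvd_iff_coprime.1 h.cop))
    (conj_mem_of_mem_normalizer (h.norm hs)
      (mul_mem h.mem (conj_mem_of_mem_normalizer (h.norm ht) (inv_mem h.mem))))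
  exact ⟨c, u, hu, by rw [← e]; group⟩

omit hp in
theorem exists_nat_sum [Fintype H] {χ : G → ℂ} (hχ : IsCharacter G χ) :
    ∃ m : ℕ, ∑ s : H, χ s = Nat.card H * m := by
  obtain ⟨m, hm⟩ := (hχ.restrict H).exists_nat_inner isCharacter_one
  rw [classInner_one_right] at hm
  exact ⟨m, by rw [← hm, mul_inv_cancel_left₀ (card_ne_zero H)]⟩

/-- the fixed space of `H` has at most half the dimension -/
theorem two_mul_le (hp2 : p ≠ 2) (hH : IsPGroup p H) (hab : IsMulCommutative H)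
    (hcl : IsExtremelyClosed H) [Fintype H] {χ : G → ℂ} (hχ : IsIrrCharacter G χ)
    (hne : ¬ H ≤ charKer χ) {m d : ℕ} (hm : ∑ s : H, χ s = Nat.card H * m) (hd : χ 1 = d) :
    2 * m ≤ d := by
  have := Fintype.ofFinite G
  set h := Nat.card H with hh
  have hh0 : (0 : ℝ) < h := by exact_mod_cast Nat.card_pos
  have hg0 : (0 : ℝ) < Nat.card G := by exact_mod_cast Nat.card_pos
  have h1 : χ 1 * ∑ a : G, ∑ s : H, ∑ t : H, χ (s * (a * t * a⁻¹)) =
      Nat.card G * (∑ s : H, χ s) * ∑ s : H, χ s := by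
    rw [Finset.sum_comm, Finset.mul_sum, mul_assoc, Finset.sum_mul_sum, Finset.mul_sum]
    refine Finset.sum_congr rfl fun s _ => ?_
    rw [Finset.sum_comm, Finset.mul_sum, Finset.mul_sum]
    refine Finset.sum_congr rfl fun t _ => ?_
    rw [Block.irr_one_mul_sum_conj hχ, mul_assoc]
  have h2 : ∀ a : G, 3 * h * (h * m) - (h : ℝ) ^ 2 * d ≤
      2 * (∑ s : H, ∑ t : H, χ (s * (a * t * a⁻¹))).re := by
    intro a
    obtain ⟨K, k, hK⟩ := exists_pair hH hab hcl a
    have := pair_bound' hp2 hH hab hK.norm hK.cop hK.fix hK.mem hχ.isCharacter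
    rw [hm, hd, ← hh] at this
    rw [Finset.sum_congr rfl fun (s : H) _ => hK.sum_eq (fun x => χ (s * x))]
    simpa using this
  have h3 := Finset.card_nsmul_le_sum Finset.univ _ _ fun a _ => h2 a
  rw [← Finset.mul_sum, ← Complex.re_sum, nsmul_eq_mul, Finset.card_univ,
    ← Nat.card_eq_fintype_card] at h3
  have h4 := congrArg Complex.re h1
  rw [hd, hm, ← Complex.ofReal_natCast d, Complex.re_ofReal_mul] at h4
  have h5 : ((Nat.card G : ℂ) * (h * m) * (h * m)).re = Nat.card G * (h * m) * (h * m) := by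
    norm_cast
  rw [h5] at h4
  have hd0 : (0 : ℝ) ≤ d := Nat.cast_nonneg _
  have h6 : (d : ℝ) * (3 * m - d) ≤ 2 * m ^ 2 := by
    have h7 := mul_le_mul_of_nonneg_left h3 hd0
    have h8 : (0 : ℝ) < Nat.card G * h ^ 2 := by positivity
    refine le_of_mul_le_mul_left ?_ h8
    nlinarith
  have h7 : m < d := by
    by_contra h8
    push Not at h8
    refine hne fun s hs => (mem_charKer_iff hχ.isCharacter).2 ?_
    have h9 : ∀ t ∈ (Finset.univ : Finset H), (χ t).re ≤ (d : ℝ) := fun t _ => by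
      simpa [hd] using re_le_one hχ.isCharacter t
    have h10 : ∑ t : H, (χ t).re = ∑ _t : H, (d : ℝ) := by
      refine le_antisymm (Finset.sum_le_sum h9) ?_
      rw [← Complex.re_sum, hm, Finset.sum_const, nsmul_eq_mul, Finset.card_univ,
        ← Nat.card_eq_fintype_card]
      norm_cast
      exact Nat.mul_le_mul_left _ h8
    have h11 : (χ s).re = d := (Finset.sum_eq_sum_iff_of_le h9).1 h10 ⟨s, hs⟩ (Finset.mem_univ _)
    have h12 := isCharacter_norm_le hχ.isCharacter s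
    rw [hd, Complex.norm_natCast] at h12
    have h13 : (χ s).im = 0 := by
      have := Complex.sq_norm (χ s)
      rw [Complex.normSq_apply, h11] at this
      nlinarith [norm_nonneg (χ s), sq_nonneg (χ s).im]
    rw [hd]
    exact Complex.ext (by simpa using h11) (by simpa using h13)
  have h8 : (m : ℝ) < d := by exact_mod_cast h7
  have : (2 * m : ℝ) ≤ d := by nlinarith
  exact_mod_cast this

/-- the coprime case -/
theorem step2 (hp2 : p ≠ 2) (hH : IsPGroup p H) (hab : IsMulCommutative H)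
    (hcl : IsExtremelyClosed H) {X : Subgroup G} [hXn : X.Normal] (hX : ¬ p ∣ Nat.card X)
    (htop : X ⊔ H = ⊤) (hncl : normalClosure (H : Set G) = ⊤)
    (hloc : ∀ b ∈ H, b ≠ 1 → ∃ R : Subgroup G, R ≤ X ⊓ centralizer ({b} : Set G) ∧
      centralizer ({b} : Set G) ≤ 𝐍[R] ∧ R ⊓ 𝐂[H] = ⊥ ∧
      ∀ u ∈ X ⊓ centralizer ({b} : Set G), u ∈ H ⊔ cj(u, H) → u ∈ R) :
    X ⊓ 𝐂[H] = ⊥ := by
  classical
  by_contra hne
  have := Fintype.ofFinite G
  have hHX : H ≤ 𝐍[X] := le_normalizer_of_normal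
  have hXc : (Nat.card X).Coprime p := Block.not_dvd_iff_coprime.1 hX
  obtain ⟨e, he⟩ := IsPGroup.iff_card.1 hH
  have hcop : (Nat.card X).Coprime (Nat.card H) := he ▸ hXc.pow_right e
  have hHX' : H ⊓ X = ⊥ := Grp.inf_eq_bot_of_isPGroup_of_coprime hH hXc
  have hind : ∀ N : Subgroup G, N.Normal → N ⊔ H = ⊤ → ∀ x, ¬ p ∣ orderOf x → x ∈ N := by
    intro N _ hN x hx
    have h1 := index_dvd_of_sup_eq_top hN
    rw [he] at h1
    obtain ⟨j, -, hj⟩ := (Nat.dvd_prime_pow hp.out).1 h1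
    exact Block.mem_of_not_dvd_orderOf_of_index N ⟨j, hj⟩ hx
  obtain ⟨θ, hθ, hθ1⟩ : ∃ θ : IrrCharacter X, InvBy H θ.1 ∧ θ ≠ irrOne X := by
    by_contra h0
    push Not at h0
    have h1 := card_invBy_eq (haveI := hH.isNilpotent; inferInstance) X hHX hcop _ rfl
    have h2 : Subsingleton {χ : IrrCharacter X // InvBy H χ.1} :=
      ⟨fun a b => Subtype.ext ((h0 _ a.2).trans (h0 _ b.2).symm)⟩
    have h3 : Subsingleton (IrrCharacter ↥(X ⊓ 𝐂[H])) :=
      Finite.card_le_one_iff_subsingleton.1 (h1 ▸ Finite.card_le_one_iff_subsingleton.2 h2)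
    have h4 := sum_irr_one_sq (G := ↥(X ⊓ 𝐂[H]))
    rw [Fintype.sum_subsingleton _ (irrOne _)] at h4
    simp only [irrOne_apply, one_pow] at h4
    exact hne (card_eq_one.1 (by exact_mod_cast h4.symm))
  obtain ⟨χ, hχθ, -⟩ := exists_canonical_ext hHX hcop htop θ hθ
  have hirr : IsIrrCharacter X (fun x => χ.1 x) := by rw [funext hχθ]; exact θ.2
  have hcf := χ.2.isClassFunction
  have key : ∀ b ∈ H, b ≠ 1 → χ.1 b ≠ 0 ∧ ∀ u ∈ X ⊓ centralizer ({b} : Set G),
      u ∈ H ⊔ cj(u, H) → χ.1 (b * u) = χ.1 b := by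
    intro b hb hb1
    obtain ⟨R, hR1, hR2, hR3, hR4⟩ := hloc b hb hb1
    obtain ⟨n, hn⟩ := Block.orderOf_eq_pow_of_mem hH hb
    obtain ⟨η, z, hη, hz, h1⟩ := exists_coset_irr (hHX hb) (hn ▸ hXc.pow_right n)
      χ.2.isCharacter hirr
    have h2 : χ.1 b = z * η 1 := by simpa using h1 1
    refine ⟨h2 ▸ mul_ne_zero hz hη.one_ne_zero, fun u hu hu' => ?_⟩
    have := Fintype.ofFinite R
    have := Fintype.ofFinite ↥(X ⊓ centralizer ({b} : Set G))
    have := Fintype.ofFinite (R.subgroupOf (X ⊓ centralizer ({b} : Set G)))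
    obtain ⟨d, -, hd⟩ := hη.exists_nat_one
    have h3 := inner_one_ne_zero hH ((le_cent hab hb).trans hR2) hR3
      (f := fun r : R => η (inclusion hR1 r)) (hη.isCharacter.comp _) (fun s hs r r' e => by
        apply mul_left_cancel₀ hz
        beta_reduce
        rw [← h1, ← h1, ← hcf (b * (inclusion hR1 r : _)) s]
        refine congrArg χ.1 ?_
        change b * r' = s * (b * r) * s⁻¹
        rw [e, ← mul_assoc s, hcomm hab hs hb]
        group) (n := d) (by simpa using hd) fun h => hX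
          (h.trans ((hη.deg_dvd_card hd).trans (card_dvd_of_le inf_le_left)))
    have hRn : (R.subgroupOf (X ⊓ centralizer ({b} : Set G))).Normal :=
      (normal_subgroupOf_iff_le_normalizer hR1).2 (inf_le_right.trans hR2)
    rw [← classInner_subgroupOf hR1] at h3
    have h4 := restrict_eq_const_of_inner_one_ne_zero (R.subgroupOf (X ⊓ centralizer ({b} : Set G))) hη h3
      ⟨⟨u, hu⟩, hR4 u hu hu'⟩
    rw [h2, ← h4]
    exact h1 ⟨u, hu⟩
  have hmul : ∀ s ∈ H, ∀ t ∈ H, s * t ≠ 1 → χ.1 1 * χ.1 (s * t) = χ.1 s * χ.1 t := by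
    intro s hs t ht hst
    have h1 := Block.irr_one_mul_sum_conj χ.2 s t
    have h2 : ∀ a : G, χ.1 (s * (a * t * a⁻¹)) = χ.1 (s * t) := by
      intro a
      obtain ⟨K, k, hK⟩ := exists_pair hH hab hcl a
      obtain ⟨c, u, hu, e⟩ := hK.exists_conj hH hs ht
      have h3 : k⁻¹ * a * t * (k⁻¹ * a)⁻¹ * t⁻¹ ∈ H ⊓ X := by
        refine mem_inf.2 ⟨mul_mem (conj_mem_of_mem_normalizer hK.nmem ht) (inv_mem ht), ?_⟩
        obtain ⟨x, hx, y, hy, e'⟩ := mem_sup_of_normal_left.1 (htop.ge (mem_top (k⁻¹ * a)))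
        rw [← e', show x * y * t * (x * y)⁻¹ * t⁻¹ = x * (y * t) * y⁻¹ * x⁻¹ * t⁻¹ by group,
          hcomm hab hy ht, show x * (t * y) * y⁻¹ * x⁻¹ * t⁻¹ = x * (t * x⁻¹ * t⁻¹) by group]
        exact mul_mem hx (hXn.conj_mem _ (inv_mem hx) t)
      rw [hHX', mem_bot, mul_inv_eq_one] at h3
      rw [show a * t * a⁻¹ = k * (k⁻¹ * a * t * (k⁻¹ * a)⁻¹) * k⁻¹ by group, h3, e, hcf]
      exact (key _ (mul_mem hs ht) hst).2 u ⟨hind X hXn htop u fun h => hK.cop
        (h.trans (orderOf_dvd_natCard K hu.1)), hu.2⟩ (hK.gen u hu.1)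
    simp only [h2, Finset.sum_const, Finset.card_univ, nsmul_eq_mul,
      ← Nat.card_eq_fintype_card] at h1
    apply mul_left_cancel₀ (card_ne_zero G)
    linear_combination h1
  have hnorm : ∀ s ∈ H, ‖χ.1 s‖ = ‖χ.1 1‖ := by
    intro s hs
    by_cases hs1 : s = 1
    · rw [hs1]
    obtain ⟨t, ht, hmin⟩ := Finset.exists_min_image
      (Finset.univ.filter fun t : G => t ∈ H ∧ t ≠ 1) (fun t => ‖χ.1 t‖) ⟨s, by simp [hs, hs1]⟩
    simp only [Finset.mem_filter, Finset.mem_univ, true_and] at ht hmin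
    have htt : t * t ≠ 1 := by
      intro h
      obtain ⟨n, hn⟩ := Block.orderOf_eq_pow_of_mem hH ht.1
      have h1 : orderOf t = 2 := orderOf_eq_prime (by rwa [pow_two]) ht.2
      exact hp2 ((Nat.prime_two.pow_eq_iff.1 (hn.symm.trans h1)).1)
    have h1 := congrArg norm (hmul t ht.1 t ht.1 htt)
    rw [norm_mul, norm_mul] at h1
    have h2 := hmin _ ⟨mul_mem ht.1 ht.1, htt⟩
    have h3 := norm_pos_iff.2 (key t ht.1 ht.2).1
    have h4 : ‖χ.1 1‖ ≤ ‖χ.1 t‖ := by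
      refine le_of_mul_le_mul_right ?_ h3
      rw [← h1]
      exact mul_le_mul_of_nonneg_left h2 (norm_nonneg _)
    exact le_antisymm (isCharacter_norm_le χ.2.isCharacter s) (h4.trans (hmin s ⟨hs, hs1⟩))
  have hN := charKer_normal hcf
  have hNH : (charKer χ.1 ⊔ H).Normal := by
    rw [← normalizer_eq_top_iff, eq_top_iff]
    refine le_normalizer_iff_cj.2 fun g _ => ?_
    rw [cj_sup, cj_of_normal]
    refine sup_le le_sup_left (cj_le_iff_forall.2 fun s hs => ?_)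
    have h1 := inv_mem (commutator_mem_charKer_of_norm_eq χ.2.isCharacter (hnorm s hs) g)
    have := mul_mem (mem_sup_left h1 : _ ∈ charKer χ.1 ⊔ H) (mem_sup_right hs)
    convert this using 1
    group
  have htop' : charKer χ.1 ⊔ H = ⊤ :=
    top_le_iff.1 (hncl.ge.trans (normalClosure_le_normal (le_sup_right : H ≤ _)))
  refine hθ1 (Subtype.ext (eq_one_of_charKer_eq_top θ.2 ((eq_top_iff' _).2 fun x => ?_)))
  rw [mem_charKer_iff θ.2.isCharacter, ← hχθ, ← hχθ]
  exact (mem_charKer_iff χ.2.isCharacter).1 (hind _ hN htop' x fun h => hX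
    (h.trans (orderOf_dvd_natCard X x.2)))

end Cfsg.Agent.ExC
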